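import Groth.Agent.H29Curve.Trdeg
import Mathlib

/-! Noether normalization of a fibre ring by coordinates from the total ring. -/

set_option autoImplicit false
set_option backward.isDefEq.respectTransparency false
universe u
open TensorProduct

namespace Groth.Agent.H06Noether

variable {A B : Type u} [CommRing A] [CommRing B] [Algebra A B] (p : Ideal A) [p.IsPrime]

theorem exists_clear_denominator (x : p.Fiber B) :
    ∃ t : A, algebraMap A p.ResidueField t ≠ 0 ∧ ∃ b : B, algebraMap A p.ResidueField t • x = (1 : p.ResidueField) ⊗ₜ[A] b := by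
  induction x using TensorProduct.induction_on with
  | zero => exact ⟨1, by simp, 0, by simp⟩
  | tmul c b =>
    obtain ⟨a, t, ht, rfl⟩ := IsFractionRing.div_surjective (A := A ⧸ p) c
    obtain ⟨a, rfl⟩ := Ideal.Quotient.mk_surjective a
    obtain ⟨t, rfl⟩ := Ideal.Quotient.mk_surjective t
    have ht' : algebraMap A p.ResidueField t ≠ 0 := by
      rw [IsScalarTower.algebraMap_apply A (A ⧸ p) p.ResidueField]
      exact IsFractionRing.to_map_ne_zero_of_mem_nonZeroDivisors ht
    refine ⟨t, ht', a • b, ?_⟩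
    rw [← Ideal.Quotient.algebraMap_eq, ← IsScalarTower.algebraMap_apply, ← IsScalarTower.algebraMap_apply,
      TensorProduct.smul_tmul', smul_eq_mul, mul_div_cancel₀ _ ht', ← TensorProduct.smul_tmul,
      Algebra.algebraMap_eq_smul_one]
  | add x y hx hy =>
    obtain ⟨t, ht, b, hb⟩ := hx
    obtain ⟨s, hs, c, hc⟩ := hy
    refine ⟨t * s, by rw [map_mul]; exact mul_ne_zero ht hs, s • b + t • c, ?_⟩
    rw [smul_add, TensorProduct.tmul_add, TensorProduct.tmul_smul, TensorProduct.tmul_smul, ← hb, ← hc,
      ← algebraMap_smul p.ResidueField s, ← algebraMap_smul p.ResidueField t, smul_smul, smul_smul, map_mul,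
      mul_comm (algebraMap A p.ResidueField t)]

theorem ringKrullDim_eq_of_finite_injective {k R : Type u} [Field k] [CommRing R] [Algebra k R] {s : ℕ}
    (g : MvPolynomial (Fin s) k →ₐ[k] R) (hg : Function.Injective g) (hfin : g.Finite) :
    ringKrullDim R = (s : WithBot ℕ∞) := by
  letI := g.toRingHom.toAlgebra
  haveI : Module.Finite (MvPolynomial (Fin s) k) R := hfin
  haveI : FaithfulSMul (MvPolynomial (Fin s) k) R := (faithfulSMul_iff_algebraMap_injective _ _).mpr hg
  haveI : Algebra.IsIntegral (MvPolynomial (Fin s) k) R := Algebra.IsIntegral.of_finite _ _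
  have h : ringKrullDim R = ringKrullDim (MvPolynomial (Fin s) k) :=
    le_antisymm
      (Order.krullDim_le_of_strictMono (PrimeSpectrum.comap (algebraMap (MvPolynomial (Fin s) k) R))
        fun I J hIJ => Ideal.IsIntegral.comap_lt_comap (R := MvPolynomial (Fin s) k) (I := I.asIdeal) (J := J.asIdeal) hIJ)
      (H29Curve.ringKrullDim_le_of_isIntegral g.toRingHom (RingHom.IsIntegral.of_finite hfin) hg)
  rw [h, MvPolynomial.ringKrullDim_of_isNoetherianRing, ringKrullDim_eq_zero_of_field]
  simp

theorem exists_coords [Algebra.FiniteType A B] (e : ℕ) [Nontrivial (p.Fiber B)]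
    (he : ringKrullDim (p.Fiber B) = (e : WithBot ℕ∞)) :
    ∃ b : Fin e → B,
      (MvPolynomial.aeval (R := p.ResidueField) fun i => ((1 : p.ResidueField) ⊗ₜ[A] b i : p.Fiber B)).Finite ∧
      Function.Injective (MvPolynomial.aeval (R := p.ResidueField) fun i => ((1 : p.ResidueField) ⊗ₜ[A] b i : p.Fiber B)) := by
  obtain ⟨s, g, hg, hfin⟩ := exists_finite_inj_algHom_of_fg p.ResidueField (p.Fiber B)
  obtain rfl : e = s := by
    have := he.symm.trans (ringKrullDim_eq_of_finite_injective g hg hfin)
    exact_mod_cast this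
  choose t ht b hb using fun i => exists_clear_denominator p (g (MvPolynomial.X i))
  refine ⟨b, ?_⟩
  let c : Fin e → p.ResidueField := fun i => algebraMap A p.ResidueField (t i)
  let θ : MvPolynomial (Fin e) p.ResidueField →ₐ[p.ResidueField] MvPolynomial (Fin e) p.ResidueField :=
    MvPolynomial.aeval fun i => MvPolynomial.C (c i) * MvPolynomial.X i
  let θ' : MvPolynomial (Fin e) p.ResidueField →ₐ[p.ResidueField] MvPolynomial (Fin e) p.ResidueField :=
    MvPolynomial.aeval fun i => MvPolynomial.C (c i)⁻¹ * MvPolynomial.X i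
  have h1 : θ.comp θ' = AlgHom.id _ _ := by
    refine MvPolynomial.algHom_ext fun i => ?_
    simp only [θ, θ', AlgHom.comp_apply, MvPolynomial.aeval_X, map_mul, AlgHom.id_apply]
    rw [show (MvPolynomial.C (c i)⁻¹ : MvPolynomial (Fin e) p.ResidueField) = algebraMap p.ResidueField _ (c i)⁻¹ from rfl,
      AlgHom.commutes, MvPolynomial.algebraMap_eq, ← mul_assoc, ← map_mul, inv_mul_cancel₀ (ht i), map_one, one_mul]
  have h2 : θ'.comp θ = AlgHom.id _ _ := by
    refine MvPolynomial.algHom_ext fun i => ?_
    simp only [θ, θ', AlgHom.comp_apply, MvPolynomial.aeval_X, map_mul, AlgHom.id_apply]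
    rw [show (MvPolynomial.C (c i) : MvPolynomial (Fin e) p.ResidueField) = algebraMap p.ResidueField _ (c i) from rfl,
      AlgHom.commutes, MvPolynomial.algebraMap_eq, ← mul_assoc, ← map_mul, mul_inv_cancel₀ (ht i), map_one, one_mul]
  let Θ := AlgEquiv.ofAlgHom θ θ' h1 h2
  have h3 : (MvPolynomial.aeval (R := p.ResidueField) fun i => ((1 : p.ResidueField) ⊗ₜ[A] b i : p.Fiber B)) =
      g.comp Θ.toAlgHom := by
    refine MvPolynomial.algHom_ext fun i => ?_
    rw [MvPolynomial.aeval_X, AlgHom.comp_apply]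
    show _ = g (θ (MvPolynomial.X i))
    have hC : g (MvPolynomial.C (c i)) = algebraMap _ _ (c i) := g.commutes (c i)
    rw [MvPolynomial.aeval_X, map_mul, hC, ← Algebra.smul_def, ← hb]
  rw [h3]
  exact ⟨hfin.comp (AlgHom.Finite.of_surjective _ Θ.surjective), hg.comp Θ.injective⟩

end Groth.Agent.H06Noether
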