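import Groth.Agent.H06Noether.FibreAlg
import Groth.Agent.H8Props.FieldDimScheme

/-! Morphisms to affine space finite on a given fibre. -/

set_option autoImplicit false
set_option backward.isDefEq.respectTransparency false
universe u
open CategoryTheory CategoryTheory.Limits AlgebraicGeometry TensorProduct

namespace Groth.Agent.H06Noether

theorem isFinite_of_comp {P F : Scheme.{u}} [IsAffine P] [IsAffine F] (G : P ⟶ F) {R : Type u} [CommRing R]
    (τ : R →+* Γ(F, ⊤)) (h : (G.appTop.hom.comp τ).Finite) : IsFinite G := by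
  rw [HasAffineProperty.iff_of_isAffine (P := @IsFinite)]
  exact ⟨inferInstance, RingHom.Finite.of_comp_finite h⟩

/-- Fibres of a square with isomorphisms. -/
theorem isPullback_fiberι_comp_iso {T T' S S' : Scheme.{u}} (π' : T' ⟶ S') (π : T ⟶ S) (m : T' ⟶ T)
    (c : S' ⟶ S) [IsIso m] [IsIso c] (hsq : m ≫ π = π' ≫ c) (y' : S') (y : S) (hy : c y' = y) :
    ∃ σ : π'.fiber y' ≅ π.fiber y, σ.hom ≫ π.fiberι y = π'.fiberι y' ≫ m := by
  subst hy
  have h1 : IsPullback (π'.fiberι y' ≫ m) (π'.fiberToSpecResidueField y') π (S'.fromSpecResidueField y' ≫ c) :=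
    (IsPullback.of_hasPullback π' (S'.fromSpecResidueField y')).paste_horiz (IsPullback.of_horiz_isIso ⟨hsq⟩)
  have h2 : IsPullback (π'.fiberι y' ≫ m) (π'.fiberToSpecResidueField y' ≫ Spec.map (c.residueFieldMap y'))
      π (S.fromSpecResidueField (c y')) :=
    IsPullback.of_iso h1 (Iso.refl _) (Iso.refl _) (asIso (Spec.map (c.residueFieldMap y'))) (Iso.refl _)
      (by simp) (by simp) (by simp) (by simp [Scheme.Hom.SpecMap_residueFieldMap_fromSpecResidueField])
  exact ⟨h2.isoPullback, h2.isoPullback_hom_fst⟩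

theorem isPullback_Spec_fiber (A B : Type u) [CommRing A] [CommRing B] [Algebra A B] (p : Ideal A) [p.IsPrime] :
    IsPullback (Spec.map (CommRingCat.ofHom (Algebra.TensorProduct.includeRight (R := A) (A := p.ResidueField) (B := B)).toRingHom))
      (Spec.map (CommRingCat.ofHom (algebraMap p.ResidueField (p.Fiber B))))
      (Spec.map (CommRingCat.ofHom (algebraMap A B))) (Spec.map (CommRingCat.ofHom (algebraMap A p.ResidueField))) :=
  (isPullback_SpecMap_of_isPushout _ _ _ _ (CommRingCat.isPushout_tensorProduct A p.ResidueField B)).flip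

theorem exists_toAffineSpace_finite_Spec (A B : Type u) [CommRing A] [CommRing B] [Algebra A B]
    [Algebra.FiniteType A B] (y : Spec (CommRingCat.of A))
    (hy : y ∈ Set.range (Spec.map (CommRingCat.ofHom (algebraMap A B))).base) (e : ℕ)
    (he : topologicalKrullDim ↥((Spec.map (CommRingCat.ofHom (algebraMap A B))).fiber y) = e) :
    ∃ g : Spec (CommRingCat.of B) ⟶ 𝔸(ULift.{u} (Fin e); Spec (CommRingCat.of A)),
      g ≫ (𝔸(ULift.{u} (Fin e); Spec (CommRingCat.of A)) ↘ Spec (CommRingCat.of A)) = Spec.map (CommRingCat.ofHom (algebraMap A B)) ∧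
      IsFinite (pullback.snd g ((𝔸(ULift.{u} (Fin e); Spec (CommRingCat.of A)) ↘ Spec (CommRingCat.of A)).fiberι y)) := by
  let f := Spec.map (CommRingCat.ofHom (algebraMap A B))
  let p : Ideal A := PrimeSpectrum.asIdeal y
  haveI hp : p.IsPrime := PrimeSpectrum.isPrime y
  let ι := Spec.map (CommRingCat.ofHom (algebraMap A p.ResidueField))
  let r := Spec.map (Scheme.Spec.residueFieldIso (CommRingCat.of A) y).inv
  have hr : r ≫ ι = (Spec (CommRingCat.of A)).fromSpecResidueField y :=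
    Scheme.Spec.map_residueFieldIso_inv_eq_fromSpecResidueField (CommRingCat.of A) y
  haveI : IsIso r := inferInstance
  have hfib : ∀ {T : Scheme.{u}} (π : T ⟶ Spec (CommRingCat.of A)),
      IsPullback (π.fiberι y) (π.fiberToSpecResidueField y ≫ r) π ι := fun π =>
    IsPullback.of_iso (IsPullback.of_hasPullback π ((Spec (CommRingCat.of A)).fromSpecResidueField y))
      (Iso.refl _) (Iso.refl _) (asIso r) (Iso.refl _)
      (by simp; rfl) (by simp; rfl) (by simp) (by simpa using hr.symm)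
  have hspec := isPullback_Spec_fiber A B p
  let e0 : f.fiber y ≅ Spec (CommRingCat.of (p.Fiber B)) := (hfib f).isoIsPullback _ _ hspec
  haveI : Nonempty ↥(f.fiber y) := by
    obtain ⟨x, hx⟩ := hy
    obtain ⟨w, -⟩ : x ∈ Set.range (f.fiberι y) := by rw [f.range_fiberι]; exact hx
    exact ⟨w⟩
  haveI : Nonempty (PrimeSpectrum (p.Fiber B)) :=
    Nonempty.map (fun w : ↥(f.fiber y) => e0.hom w) inferInstance
  haveI : Nontrivial (p.Fiber B) := PrimeSpectrum.nonempty_iff_nontrivial.1 ‹_›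
  have he' : ringKrullDim (p.Fiber B) = (e : WithBot ℕ∞) := by
    rw [← PrimeSpectrum.topologicalKrullDim_eq_ringKrullDim, ← he]
    exact (IsHomeomorph.topologicalKrullDim_eq _ (Scheme.homeoOfIso e0).isHomeomorph).symm
  obtain ⟨b, hb, -⟩ := exists_coords p e he'
  let v : ULift.{u} (Fin e) → Γ(Spec (CommRingCat.of B), ⊤) := fun i =>
    (Scheme.ΓSpecIso (CommRingCat.of B)).inv (b i.down)
  let g : Spec (CommRingCat.of B) ⟶ 𝔸(ULift.{u} (Fin e); Spec (CommRingCat.of A)) := AffineSpace.homOfVector f v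
  let π := 𝔸(ULift.{u} (Fin e); Spec (CommRingCat.of A)) ↘ Spec (CommRingCat.of A)
  have hgπ : g ≫ π = f := AffineSpace.homOfVector_over _ _
  refine ⟨g, hgπ, ?_⟩
  set G := pullback.snd g (π.fiberι y) with hG
  have hP : IsPullback (pullback.fst g (π.fiberι y)) (G ≫ π.fiberToSpecResidueField y ≫ r) f ι := by
    have := (IsPullback.of_hasPullback g (π.fiberι y)).paste_vert (hfib π)
    rwa [hgπ] at this
  let e1 := hP.isoIsPullback _ _ hspec
  have h1 : e1.hom ≫ Spec.map (CommRingCat.ofHom (Algebra.TensorProduct.includeRight (R := A) (A := p.ResidueField) (B := B)).toRingHom) =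
      pullback.fst g (π.fiberι y) := hP.isoIsPullback_hom_fst _ _ hspec
  have h2 : e1.hom ≫ Spec.map (CommRingCat.ofHom (algebraMap p.ResidueField (p.Fiber B))) =
      G ≫ π.fiberToSpecResidueField y ≫ r := hP.isoIsPullback_hom_snd _ _ hspec
  haveI : IsAffine (pullback g (π.fiberι y)) := .of_isIso e1.hom
  haveI : IsAffine (π.fiber y) := inferInstanceAs (IsAffine (pullback π _))
  let τ : MvPolynomial (Fin e) p.ResidueField →+* Γ(π.fiber y, ⊤) :=
    MvPolynomial.eval₂Hom (((π.fiberToSpecResidueField y ≫ r).appTop).hom.comp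
        (Scheme.ΓSpecIso (CommRingCat.of p.ResidueField)).inv.hom)
      fun i => (π.fiberι y).appTop (AffineSpace.coord _ ⟨i⟩)
  refine isFinite_of_comp G τ ?_
  let ψ : p.Fiber B →+* Γ(pullback g (π.fiberι y), ⊤) :=
    e1.hom.appTop.hom.comp (Scheme.ΓSpecIso (CommRingCat.of (p.Fiber B))).inv.hom
  have hψ : Function.Surjective ψ :=
    (ConcreteCategory.bijective_of_isIso e1.hom.appTop).2.comp
      (ConcreteCategory.bijective_of_isIso (Scheme.ΓSpecIso (CommRingCat.of (p.Fiber B))).inv).2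
  have key : G.appTop.hom.comp τ = ψ.comp
      (MvPolynomial.aeval (R := p.ResidueField) fun i => ((1 : p.ResidueField) ⊗ₜ[A] b i : p.Fiber B)).toRingHom := by
    refine MvPolynomial.ringHom_ext (fun c => ?_) fun i => ?_
    · simp only [τ, RingHom.comp_apply, MvPolynomial.eval₂Hom_C, AlgHom.toRingHom_eq_coe, RingHom.coe_coe,
        MvPolynomial.aeval_C]
      have h3 := congrArg (fun F : pullback g (π.fiberι y) ⟶ Spec (CommRingCat.of p.ResidueField) =>
        F.appTop ((Scheme.ΓSpecIso (CommRingCat.of p.ResidueField)).inv c)) h2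
      simp only [Scheme.Hom.comp_appTop, CommRingCat.comp_apply] at h3
      refine Eq.trans h3.symm ?_
      show e1.hom.appTop _ = e1.hom.appTop _
      congr 1
      exact (congrArg (fun φ : CommRingCat.of p.ResidueField ⟶ Γ(Spec (CommRingCat.of (p.Fiber B)), ⊤) => φ c)
        (Scheme.ΓSpecIso_inv_naturality (CommRingCat.ofHom (algebraMap p.ResidueField (p.Fiber B))))).symm
    · simp only [τ, RingHom.comp_apply, MvPolynomial.eval₂Hom_X', AlgHom.toRingHom_eq_coe, RingHom.coe_coe,
        MvPolynomial.aeval_X]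
      have h3 := congrArg (fun F : pullback g (π.fiberι y) ⟶ 𝔸(ULift.{u} (Fin e); Spec (CommRingCat.of A)) =>
        F.appTop (AffineSpace.coord (Spec (CommRingCat.of A)) ⟨i⟩))
        (pullback.condition (f := g) (g := π.fiberι y))
      simp only [Scheme.Hom.comp_appTop, CommRingCat.comp_apply] at h3
      rw [AffineSpace.homOfVector_appTop_coord] at h3
      refine Eq.trans h3.symm ?_
      rw [← h1, Scheme.Hom.comp_appTop, CommRingCat.comp_apply]
      show e1.hom.appTop _ = e1.hom.appTop _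
      congr 1
      exact (congrArg (fun φ : CommRingCat.of B ⟶ Γ(Spec (CommRingCat.of (p.Fiber B)), ⊤) => φ (b i))
        (Scheme.ΓSpecIso_inv_naturality (CommRingCat.ofHom
          (Algebra.TensorProduct.includeRight (R := A) (A := p.ResidueField) (B := B)).toRingHom))).symm
  rw [key]
  exact (RingHom.Finite.of_surjective ψ hψ).comp hb

/-- For affine schemes. -/
theorem exists_toAffineSpace_finite {X Y : Scheme.{u}} [IsAffine X] [IsAffine Y] (f : X ⟶ Y)
    [LocallyOfFiniteType f] (y : Y) (hy : y ∈ Set.range f.base) (e : ℕ)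
    (he : topologicalKrullDim ↥(f.fiber y) = e) :
    ∃ g : X ⟶ 𝔸(ULift.{u} (Fin e); Y), g ≫ (𝔸(ULift.{u} (Fin e); Y) ↘ Y) = f ∧
      IsFinite (pullback.snd g ((𝔸(ULift.{u} (Fin e); Y) ↘ Y).fiberι y)) := by
  obtain ⟨A, ⟨eY⟩⟩ : ∃ A : CommRingCat.{u}, Nonempty (Y ≅ Spec A) := ⟨_, ⟨Y.isoSpec⟩⟩
  obtain ⟨B, ⟨eX⟩⟩ : ∃ B : CommRingCat.{u}, Nonempty (X ≅ Spec B) := ⟨_, ⟨X.isoSpec⟩⟩
  let φ : A ⟶ B := Spec.preimage (eX.inv ≫ f ≫ eY.hom)
  have hφ : Spec.map φ = eX.inv ≫ f ≫ eY.hom := Spec.map_preimage _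
  letI : Algebra A B := φ.hom.toAlgebra
  haveI : LocallyOfFiniteType (Spec.map φ) := by rw [hφ]; infer_instance
  haveI : Algebra.FiniteType A B :=
    RingHom.finiteType_algebraMap.1 ((HasRingHomProperty.Spec_iff (P := @LocallyOfFiniteType)).1 ‹_›)
  -- the fibre square
  let y' : Spec A := eY.hom y
  have hy' : y' ∈ Set.range (Spec.map φ).base := by
    obtain ⟨x, hx⟩ := hy
    refine ⟨eX.hom x, ?_⟩
    show (Spec.map φ) (eX.hom x) = _
    rw [hφ]
    show (eX.hom ≫ eX.inv ≫ f ≫ eY.hom) x = _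
    rw [Iso.hom_inv_id_assoc]
    exact congrArg eY.hom hx
  have he' : topologicalKrullDim ↥((Spec.map φ).fiber y') = e := by
    have h : Set.range ((Spec.map φ).fiberι y') = eX.hom '' Set.range (f.fiberι y) := by
      rw [Scheme.Hom.range_fiberι, Scheme.Hom.range_fiberι]
      ext z
      constructor
      · intro hz
        refine ⟨eX.inv z, ?_, congrArg (fun (F : Spec B ⟶ Spec B) => F z) eX.inv_hom_id⟩
        apply eY.hom.isOpenEmbedding.injective
        show (eX.inv ≫ f ≫ eY.hom) z = y'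
        rw [← hφ]; exact hz
      · rintro ⟨x, hx, rfl⟩
        show (Spec.map φ) (eX.hom x) = y'
        rw [hφ]
        show (eX.hom ≫ eX.inv ≫ f ≫ eY.hom) x = _
        rw [Iso.hom_inv_id_assoc]
        exact congrArg eY.hom hx
    rw [← he, ← H8Props.FieldDim.dim_range ((Spec.map φ).fiberι y').isEmbedding, h, ← Set.range_comp]
    exact H8Props.FieldDim.dim_range (eX.hom.isOpenEmbedding.isEmbedding.comp (f.fiberι y).isEmbedding)
  obtain ⟨g₀, hg₀, hfin⟩ := exists_toAffineSpace_finite_Spec A B y' hy' e he'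
  let m := AffineSpace.map (ULift.{u} (Fin e)) eY.inv
  haveI : IsIso m := ⟨AffineSpace.map (ULift.{u} (Fin e)) eY.hom,
    by rw [← AffineSpace.map_comp, Iso.inv_hom_id, AffineSpace.map_id],
    by rw [← AffineSpace.map_comp, Iso.hom_inv_id, AffineSpace.map_id]⟩
  refine ⟨eX.hom ≫ g₀ ≫ m, ?_, ?_⟩
  · rw [Category.assoc, Category.assoc, AffineSpace.map_over, ← Category.assoc g₀]
    erw [hg₀]
    show eX.hom ≫ Spec.map φ ≫ eY.inv = f
    rw [hφ]
    simp
  · have hyy : eY.inv y' = y := congrArg (fun (F : Y ⟶ Y) => F y) eY.hom_inv_id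
    obtain ⟨σ, hσ⟩ := isPullback_fiberι_comp_iso (𝔸(ULift.{u} (Fin e); Spec A) ↘ Spec A)
      (𝔸(ULift.{u} (Fin e); Y) ↘ Y) m eY.inv (AffineSpace.map_over _) y' y hyy
    have h : IsPullback (pullback.fst g₀ ((𝔸(ULift.{u} (Fin e); Spec A) ↘ Spec A).fiberι y') ≫ eX.inv) (pullback.snd g₀ ((𝔸(ULift.{u} (Fin e); Spec A) ↘ Spec A).fiberι y') ≫ σ.hom)
        (eX.hom ≫ g₀ ≫ m) ((𝔸(ULift.{u} (Fin e); Y) ↘ Y).fiberι y) :=
      IsPullback.of_iso (IsPullback.of_hasPullback g₀ ((𝔸(ULift.{u} (Fin e); Spec A) ↘ Spec A).fiberι y')) (Iso.refl _) eX.symm σ (asIso m)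
        (by simp) (by simp) (by simp) (by simpa using hσ.symm)
    have h2 := h.isoPullback_inv_snd
    rw [← h2]
    infer_instance

end Groth.Agent.H06Noether
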