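import Groth.Agent.H06Noether.FibreScheme
import Groth.Agent.H06EGA14.QFLift
import Groth.Agent.H17.AssPush
import Groth.Agent.H17.Dim

/-! A morphism to affine space finite on a fibre of the right dimension is surjective there and
quasi-finite near it. -/

set_option autoImplicit false
set_option backward.isDefEq.respectTransparency false
universe u
open CategoryTheory CategoryTheory.Limits AlgebraicGeometry TopologicalSpace

namespace Groth.Agent.H06Noether

/-- The fibre of affine space is the spectrum of a polynomial ring. -/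
theorem exists_fiber_affineSpace_iso (n : Type u) (Y : Scheme.{u}) (y : Y) :
    Nonempty ((𝔸(n; Y) ↘ Y).fiber y ≅ Spec (CommRingCat.of (MvPolynomial n (Y.residueField y)))) := by
  let h := AffineSpace.isPullback_map (n := n) (Y.fromSpecResidueField y)
  exact ⟨h.isoPullback.symm ≪≫ AffineSpace.SpecIso n (Y.residueField y)⟩

theorem surjective_of_finite_of_dim {P F : Scheme.{u}} {k : Type u} [Field k] (e : ℕ)
    (i : F ≅ Spec (CommRingCat.of (MvPolynomial (ULift.{u} (Fin e)) k))) (G : P ⟶ F) [IsIntegralHom G]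
    (hdim : topologicalKrullDim ↥P = (e : WithBot ℕ∞)) : Function.Surjective G.base := by
  let H := G ≫ i.hom
  haveI : IsIntegralHom H := inferInstance
  suffices hs : Function.Surjective H.base by
    intro z
    obtain ⟨w, hw⟩ := hs (i.hom z)
    exact ⟨w, i.hom.isOpenEmbedding.injective hw⟩
  rw [← Set.range_eq_univ]
  have hcl : IsClosed (Set.range H.base) := H.isClosedMap.isClosed_range
  obtain ⟨I, hI⟩ := (PrimeSpectrum.isClosed_iff_zeroLocus _).1 hcl
  by_contra hne
  obtain ⟨r, hr, hr0⟩ : ∃ r ∈ I, r ≠ 0 := by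
    by_contra hc
    push Not at hc
    apply hne
    rw [hI]
    exact Set.eq_univ_of_forall fun q => fun r hr => by rw [hc r hr]; exact q.asIdeal.zero_mem
  let Q := MvPolynomial (ULift.{u} (Fin e)) k ⧸ Ideal.span {r}
  let c : PrimeSpectrum Q → PrimeSpectrum (MvPolynomial (ULift.{u} (Fin e)) k) :=
    PrimeSpectrum.comap (Ideal.Quotient.mk (Ideal.span {r}))
  have hc : Topology.IsClosedEmbedding c :=
    PrimeSpectrum.isClosedEmbedding_comap_of_surjective _ _ Ideal.Quotient.mk_surjective
  have hsub : Set.range H.base ⊆ Set.range c := by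
    rw [range_comap_of_surjective _ _ Ideal.Quotient.mk_surjective, Ideal.mk_ker, hI]
    intro q hq
    exact Ideal.span_le.2 (Set.singleton_subset_iff.2 (hq hr))
  choose d hd using fun z : ↥P => hsub ⟨z, rfl⟩
  have hd' : Continuous d := by
    rw [hc.isInducing.continuous_iff, show c ∘ d = H.base from funext hd]
    exact H.continuous
  have h1 : topologicalKrullDim ↥P ≤ ringKrullDim Q := by
    rw [← PrimeSpectrum.topologicalKrullDim_eq_ringKrullDim]
    refine H17.topologicalKrullDim_le_of_noSpecializationsInFibres d hd' fun x z hxz he => ?_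
    exact H17.AssPts.eq_of_specializes_of_map_eq H hxz (by rw [← hd z, ← hd x, he])
  have h2 := ringKrullDim_quotient_succ_le_of_nonZeroDivisor (R := MvPolynomial (ULift.{u} (Fin e)) k)
    (mem_nonZeroDivisors_of_ne_zero hr0)
  rw [MvPolynomial.ringKrullDim_of_isNoetherianRing, ringKrullDim_eq_zero_of_field, zero_add,
    Nat.card_ulift, Nat.card_fin] at h2
  have h3 : (e : WithBot ℕ∞) + 1 ≤ e := le_trans (add_le_add ((hdim ▸ h1) : _ ≤ ringKrullDim Q) le_rfl) h2
  have h4 : e + 1 ≤ e := by exact_mod_cast h3
  omega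

theorem surjective_and_quasiFinite_nhd {X Y : Scheme.{u}} (f : X ⟶ Y) [LocallyOfFiniteType f] (y : Y) (e : ℕ)
    (he : topologicalKrullDim ↥(f.fiber y) = e) (g : X ⟶ 𝔸(ULift.{u} (Fin e); Y))
    (hg : g ≫ (𝔸(ULift.{u} (Fin e); Y) ↘ Y) = f)
    (hfin : IsFinite (pullback.snd g ((𝔸(ULift.{u} (Fin e); Y) ↘ Y).fiberι y))) :
    Function.Surjective (pullback.snd g ((𝔸(ULift.{u} (Fin e); Y) ↘ Y).fiberι y)).base ∧
      ∃ U : X.Opens, f.base ⁻¹' {y} ⊆ (U : Set X) ∧ LocallyQuasiFinite (U.ι ≫ g) := by
  let π := 𝔸(ULift.{u} (Fin e); Y) ↘ Y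
  set G := pullback.snd g (π.fiberι y)
  set q := pullback.fst g (π.fiberι y)
  have hP : IsPullback q (G ≫ π.fiberToSpecResidueField y) f (Y.fromSpecResidueField y) := by
    have := (IsPullback.of_hasPullback g (π.fiberι y)).paste_vert (IsPullback.of_hasPullback π (Y.fromSpecResidueField y))
    rwa [hg] at this
  refine ⟨?_, ?_⟩
  · obtain ⟨i⟩ := exists_fiber_affineSpace_iso (ULift.{u} (Fin e)) Y y
    refine surjective_of_finite_of_dim e i G ?_
    rw [← he]
    exact IsHomeomorph.topologicalKrullDim_eq _ (Scheme.homeoOfIso hP.isoPullback).isHomeomorph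
  haveI : LocallyOfFiniteType (g ≫ π) := hg.symm ▸ ‹LocallyOfFiniteType f›
  haveI : LocallyOfFiniteType g := locallyOfFiniteType_of_comp g π
  haveI : IsPreimmersion q := inferInstanceAs (IsPreimmersion (pullback.fst g (π.fiberι y)))
  have hrq : Set.range q.base = f.base ⁻¹' {y} := by
    rw [Scheme.Pullback.range_fst, Scheme.Hom.range_fiberι, ← Set.preimage_comp]
    rw [← hg]
    rfl
  have hall : ∀ x : X, f x = y → g.QuasiFiniteAt x := by
    intro x hx
    rw [Scheme.Hom.quasiFiniteAt_iff_isOpen_singleton_asFiber]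
    -- the fibre lifts into the finite morphism
    have hsub : ∀ w : g.fiber (g x), f (g.fiberι (g x) w) = y := by
      intro w
      have hw : g (g.fiberι (g x) w) = g x := (g.range_fiberι _).subset (Set.mem_range_self w)
      rw [← hg]
      show π (g (g.fiberι (g x) w)) = y
      rw [hw, ← hx, ← hg]
      rfl
    choose l hl using fun w : g.fiber (g x) =>
      (show g.fiberι (g x) w ∈ Set.range q.base from hrq.symm ▸ hsub w)
    have hG : ∀ w, π.fiberι y (G (l w)) = g x := by
      intro w
      show (G ≫ π.fiberι y) (l w) = _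
      rw [← pullback.condition (f := g) (g := π.fiberι y)]
      show g (q (l w)) = g x
      erw [hl w]
      exact (g.range_fiberι _).subset (Set.mem_range_self w)
    have hlinj : Function.Injective l := fun a b h =>
      (g.fiberι (g x)).isEmbedding.injective ((hl a).symm.trans ((congrArg _ h).trans (hl b)))
    have hfinite : (G.base ⁻¹' {G (l (g.asFiber x))}).Finite :=
      IsFinite.finite_preimage_singleton G _
    have hGl : ∀ w, G (l w) = G (l (g.asFiber x)) := fun w =>
      (π.fiberι y).isEmbedding.injective ((hG w).trans (hG _).symm)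
    haveI : Finite ↥(g.fiber (g x)) := by
      haveI := hfinite.to_subtype
      exact Finite.of_injective (fun w => (⟨l w, hGl w⟩ : G.base ⁻¹' {G (l (g.asFiber x))}))
        fun a b h => hlinj (Subtype.ext_iff.1 h)
    haveI : T1Space ↥(g.fiber (g x)) := by
      refine t1Space_iff_specializes_imp_eq.2 fun a b hab => hlinj ?_
      have h1 : l a ⤳ l b := q.isEmbedding.isInducing.specializes_iff.1
        (by rw [show q (l a) = _ from hl a, show q (l b) = _ from hl b]; exact hab.map (g.fiberι (g x)).continuous)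
      exact H17.AssPts.eq_of_specializes_of_map_eq G h1 ((hGl a).trans (hGl b).symm)
    exact isOpen_discrete _
  refine ⟨⟨_, g.isOpen_quasiFiniteAt⟩, fun x hx => hall x hx, ?_⟩
  refine H06EGA14.lqf_of_forall_quasiFiniteAt _ fun z => ?_
  rw [Scheme.Hom.quasiFiniteAt_comp_iff_of_isOpenImmersion]
  exact z.2

end Groth.Agent.H06Noether
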